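import Mathlib
import Cfsg.Agent.Lib.SympTransvection

/-! The odd Weil representation of a symplectic group over a finite field of odd order. -/

set_option autoImplicit false
set_option maxHeartbeats 800000

namespace CfsgLib.SympWeil

open Module Matrix

variable {F : Type*} [Field F] [Fintype F] [DecidableEq F] {n : ℕ}

/-- The Schrödinger space. -/
abbrev W (F : Type*) (n : ℕ) := (Fin n → F) → ℂ

/-- The symplectic space. -/
abbrev V2 (F : Type*) (n : ℕ) := Fin n ⊕ Fin n → F

/-- First coordinates. -/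
abbrev fs (v : V2 F n) : Fin n → F := fun i => v (Sum.inl i)

/-- Second coordinates. -/
abbrev sn (v : V2 F n) : Fin n → F := fun i => v (Sum.inr i)

/-- The symplectic form. -/
def om (v w : V2 F n) : F := w ⬝ᵥ (Matrix.J (Fin n) F *ᵥ v)

omit [Fintype F] [DecidableEq F] in
theorem om_eq (v w : V2 F n) : om v w = fs v ⬝ᵥ sn w - sn v ⬝ᵥ fs w := by
  simp [om, Matrix.J, dotProduct, Fintype.sum_sum_type, Matrix.fromBlocks_mulVec, Matrix.neg_mulVec, mul_comm]
  ring

omit [Fintype F] [DecidableEq F] in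
theorem om_map (g : Matrix.symplecticGroup (Fin n) F) (v w : V2 F n) :
    om (g.1 *ᵥ v) (g.1 *ᵥ w) = om v w := by
  rw [om, om, Matrix.dotProduct_mulVec, Matrix.vecMul_mulVec, Matrix.dotProduct_mulVec,
    Matrix.vecMul_vecMul, SymplecticGroup.mem_iff'.1 g.2, ← Matrix.dotProduct_mulVec]

/-- The fixed additive character. -/
noncomputable abbrev ψ : AddChar F ℂ := AddChar.FiniteField.primitiveChar_to_Complex F

omit [DecidableEq F] in
theorem ψ_ne {a : F} (ha : a ≠ 0) : ∃ x : F, ψ (a * x) ≠ 1 := by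
  obtain ⟨x, hx⟩ := AddChar.ne_one_iff.1 (AddChar.FiniteField.primitiveChar_to_Complex_isPrimitive F ha)
  exact ⟨x, by simpa using hx⟩

/-- The Weyl operators. -/
noncomputable def D (v : V2 F n) : Module.End ℂ (W F n) where
  toFun f := fun x => ψ (sn v ⬝ᵥ x + fs v ⬝ᵥ sn v / 2) * f (x + fs v)
  map_add' f g := funext fun x => mul_add _ _ _
  map_smul' c f := funext fun x => mul_left_comm _ _ _

omit [DecidableEq F] in
theorem D_apply (v : V2 F n) (f : W F n) (x : Fin n → F) :
    D v f x = ψ (sn v ⬝ᵥ x + fs v ⬝ᵥ sn v / 2) * f (x + fs v) := rfl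

omit [DecidableEq F] in
theorem D_zero : D (0 : V2 F n) = 1 := by
  refine LinearMap.ext fun f => funext fun x => ?_
  have h : fs (0 : V2 F n) = 0 ∧ sn (0 : V2 F n) = 0 := ⟨rfl, rfl⟩
  rw [D_apply, h.1, h.2, Module.End.one_apply]
  simp

omit [DecidableEq F] in
theorem D_mul (h2 : (2 : F) ≠ 0) (v w : V2 F n) : D v * D w = ψ (om v w / 2) • D (v + w) := by
  refine LinearMap.ext fun f => funext fun x => ?_
  have hf : fs (v + w) = fs v + fs w := rfl
  have hs : sn (v + w) = sn v + sn w := rfl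
  rw [Module.End.mul_apply, LinearMap.smul_apply, Pi.smul_apply, smul_eq_mul, D_apply, D_apply, D_apply, hf, hs,
    ← mul_assoc, ← mul_assoc, ← AddChar.map_add_eq_mul, ← AddChar.map_add_eq_mul, add_assoc x (fs v) (fs w)]
  congr 2
  rw [om_eq]
  simp only [add_dotProduct, dotProduct_add]
  rw [dotProduct_comm (sn w) (fs v), dotProduct_comm (sn v) (fs w)]
  field_simp
  ring

theorem D_linearIndependent : LinearIndependent ℂ (fun v : V2 F n => D v) := by
  classical
  rw [Fintype.linearIndependent_iff]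
  intro c hc v
  let χ : (Fin n → F) → AddChar (Fin n → F) ℂ := fun b =>
    { toFun := fun x => ψ (b ⬝ᵥ x)
      map_zero_eq_one' := by simp
      map_add_eq_mul' := fun x y => by rw [dotProduct_add, AddChar.map_add_eq_mul] }
  have hχ : Function.Injective χ := by
    intro b b' h
    by_contra hne
    obtain ⟨i, hi⟩ := Function.ne_iff.1 hne
    obtain ⟨t, ht⟩ := ψ_ne (sub_ne_zero.2 hi)
    have h1 : ψ (b i * t) = ψ (b' i * t) := by
      have := DFunLike.congr_fun h (Pi.single i t)
      simpa [χ, dotProduct_single] using this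
    apply ht
    rw [sub_mul, sub_eq_add_neg, AddChar.map_add_eq_mul, h1, ← AddChar.map_add_eq_mul, add_neg_cancel,
      AddChar.map_zero_eq_one]
  have hli : LinearIndependent ℂ fun b => (χ b : (Fin n → F) → ℂ) :=
    (AddChar.linearIndependent (Fin n → F) ℂ).comp χ hχ
  have key : ∀ x : Fin n → F,
      ∑ b : Fin n → F, c (Sum.elim (fs v) b) * ψ (fs v ⬝ᵥ b / 2) * ψ (b ⬝ᵥ x) = 0 := by
    intro x
    have h := congrFun (LinearMap.congr_fun hc (Pi.single (x + fs v) (1 : ℂ))) x
    rw [LinearMap.sum_apply, Finset.sum_apply, LinearMap.zero_apply, Pi.zero_apply] at h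
    rw [← h, ← (Equiv.sumArrowEquivProdArrow (Fin n) (Fin n) F).symm.sum_comp, Fintype.sum_prod_type,
      Finset.sum_eq_single (fs v) (fun a _ ha => Finset.sum_eq_zero fun b _ => ?_) (by simp)]
    · refine Finset.sum_congr rfl fun b _ => ?_
      show _ = c (Sum.elim (fs v) b) • (ψ (b ⬝ᵥ x + fs v ⬝ᵥ b / 2) *
        (Pi.single (x + fs v) (1 : ℂ) : W F n) (x + fs v))
      rw [Pi.single_eq_same, smul_eq_mul, AddChar.map_add_eq_mul]
      ring
    · show c (Sum.elim a b) • (ψ (b ⬝ᵥ x + a ⬝ᵥ b / 2) *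
        (Pi.single (x + fs v) (1 : ℂ) : W F n) (x + a)) = 0
      rw [Pi.single_eq_of_ne (fun e => ha (add_left_cancel e)), mul_zero, smul_zero]
  have h0 := Fintype.linearIndependent_iff.1 hli (fun b => c (Sum.elim (fs v) b) * ψ (fs v ⬝ᵥ b / 2))
    (funext fun x => by
      rw [Finset.sum_apply, Pi.zero_apply, ← key x]
      exact Finset.sum_congr rfl fun b _ => rfl) (sn v)
  rw [show Sum.elim (fs v) (sn v) = v from Sum.elim_comp_inl_inr v] at h0
  exact (mul_eq_zero.1 h0).resolve_right fun e => by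
    have := AddChar.map_add_eq_mul (ψ : AddChar F ℂ) (fs v ⬝ᵥ sn v / 2) (-(fs v ⬝ᵥ sn v / 2))
    rw [add_neg_cancel, AddChar.map_zero_eq_one, e, zero_mul] at this
    exact one_ne_zero this

/-- The Weyl basis. -/
noncomputable def bD : Basis (V2 F n) ℂ (Module.End ℂ (W F n)) :=
  basisOfLinearIndependentOfCardEqFinrank D_linearIndependent (by
    rw [Module.finrank_linearMap, Module.finrank_fintype_fun_eq_card]
    simp [Fintype.card_sum, pow_add])

theorem bD_apply (v : V2 F n) : bD v = D v := by simp [bD]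

/-- An operator commuting with all Weyl operators is a scalar. -/
theorem scalar_of_commute (h2 : (2 : F) ≠ 0) (Z : Module.End ℂ (W F n))
    (hZ : ∀ v, Z * D v = D v * Z) : ∃ c : ℂ, Z = c • 1 := by
  classical
  set c := bD.repr Z with hc
  have hzero : ∀ v, v ≠ 0 → c v = 0 := by
    intro v hv
    obtain ⟨i, hi⟩ := Function.ne_iff.1 hv
    obtain ⟨z, hz⟩ : ∃ z, om v z ≠ 0 := by
      obtain ⟨z, hz⟩ := SympTransvection.exists_dot_ne hv
      exact ⟨z, hz⟩
    obtain ⟨t, ht⟩ := ψ_ne hz
    obtain ⟨w, hw⟩ : ∃ w, w = t • z := ⟨_, rfl⟩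
    have e : ∀ u, bD.repr (Z * D w) (u + w) = c u * ψ (om u w / 2) := by
      intro u
      conv_lhs => rw [← bD.sum_repr Z, Finset.sum_mul]
      simp only [smul_mul_assoc, bD_apply, D_mul h2, smul_smul]
      simp only [map_sum, map_smul, Finsupp.finset_sum_apply, Finsupp.smul_apply, ← bD_apply, Basis.repr_self,
        Finsupp.single_apply, add_left_inj, smul_eq_mul, mul_ite, mul_one, mul_zero, Finset.sum_ite_eq',
        Finset.mem_univ, if_true]
      rfl
    have e' : ∀ u, bD.repr (D w * Z) (u + w) = c u * ψ (om w u / 2) := by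
      intro u
      conv_lhs => rw [← bD.sum_repr Z, Finset.mul_sum]
      simp only [mul_smul_comm, bD_apply, D_mul h2, smul_smul]
      simp only [map_sum, map_smul, Finsupp.finset_sum_apply, Finsupp.smul_apply, ← bD_apply, Basis.repr_self,
        Finsupp.single_apply, add_comm w, add_left_inj, smul_eq_mul, mul_ite, mul_one, mul_zero, Finset.sum_ite_eq',
        Finset.mem_univ, if_true]
      rfl
    have h := e v
    rw [hZ, e'] at h
    by_contra hc0
    have h' := mul_left_cancel₀ hc0 h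
    refine ht ?_
    have hswap : om w v = -om v w := SympTransvection.swap _ _
    have hvw : om v w = om v z * t := by
      rw [hw, om, smul_dotProduct, smul_eq_mul, mul_comm]; rfl
    rw [← hvw, show om v w = om v w / 2 + om v w / 2 by field_simp; ring, AddChar.map_add_eq_mul]
    nth_rewrite 1 [← h']
    rw [← AddChar.map_add_eq_mul, hswap, ← add_div, neg_add_cancel, zero_div, AddChar.map_zero_eq_one]
  refine ⟨c 0, ?_⟩
  conv_lhs => rw [← bD.sum_repr Z]
  rw [Finset.sum_eq_single 0 (fun v _ hv => by rw [← hc, hzero v hv, zero_smul]) (by simp), bD_apply, D_zero]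

variable (h2 : (2 : F) ≠ 0)

/-- The automorphism of the operator algebra given by a symplectic map. -/
noncomputable def autHom (g : Matrix.symplecticGroup (Fin n) F) :
    Module.End ℂ (W F n) →ₐ[ℂ] Module.End ℂ (W F n) :=
  AlgHom.ofLinearMap (bD.constr ℂ fun v => D (g.1 *ᵥ v))
    (by rw [← D_zero (F := F) (n := n), ← bD_apply, Basis.constr_basis, Matrix.mulVec_zero, bD_apply])
    (by
      intro X Y
      have key : (LinearMap.mul ℂ (Module.End ℂ (W F n))).compr₂ (bD.constr ℂ fun v => D (g.1 *ᵥ v)) =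
          (LinearMap.mul ℂ (Module.End ℂ (W F n))).compl₁₂ (bD.constr ℂ fun v => D (g.1 *ᵥ v))
            (bD.constr ℂ fun v => D (g.1 *ᵥ v)) := by
        refine bD.ext fun v => bD.ext fun w => ?_
        show (bD.constr ℂ fun u => D (g.1 *ᵥ u)) (bD v * bD w) =
          (bD.constr ℂ fun u => D (g.1 *ᵥ u)) (bD v) * (bD.constr ℂ fun u => D (g.1 *ᵥ u)) (bD w)
        rw [Basis.constr_basis, Basis.constr_basis, bD_apply, bD_apply, D_mul h2, D_mul h2, map_smul,
          ← bD_apply, Basis.constr_basis, Matrix.mulVec_add, om_map]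
      exact LinearMap.congr_fun (LinearMap.congr_fun key X) Y)

theorem autHom_D (g : Matrix.symplecticGroup (Fin n) F) (v : V2 F n) : autHom h2 g (D v) = D (g.1 *ᵥ v) := by
  rw [← bD_apply]
  show (bD.constr ℂ fun v => D (g.1 *ᵥ v)) (bD v) = _
  rw [Basis.constr_basis]

include h2 in
theorem exists_intertwiner (g : Matrix.symplecticGroup (Fin n) F) :
    ∃ T : W F n ≃ₗ[ℂ] W F n, ∀ v, T.toLinearMap * D v = D (g.1 *ᵥ v) * T.toLinearMap := by
  have hcomp : ∀ a b : Matrix.symplecticGroup (Fin n) F, a * b = 1 →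
      (autHom h2 a).comp (autHom h2 b) = AlgHom.id ℂ _ := fun a b hab =>
    AlgHom.toLinearMap_injective <| bD.ext fun v => by
      show autHom h2 a (autHom h2 b (bD v)) = bD v
      rw [bD_apply, autHom_D, autHom_D, Matrix.mulVec_mulVec,
        show a.1 * b.1 = 1 from congrArg Subtype.val hab, Matrix.one_mulVec]
  obtain ⟨T, hT⟩ := AlgEquiv.eq_linearEquivConjAlgEquiv
    (AlgEquiv.ofAlgHom (autHom h2 g) (autHom h2 g⁻¹) (hcomp _ _ (mul_inv_cancel g)) (hcomp _ _ (inv_mul_cancel g)))
  refine ⟨T, fun v => LinearMap.ext fun f => ?_⟩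
  rw [← autHom_D h2]
  have h := AlgEquiv.congr_fun hT (D v)
  rw [AlgEquiv.ofAlgHom_apply] at h
  show T (D v f) = (autHom h2 g (D v)) (T f)
  rw [h, LinearEquiv.conjAlgEquiv_apply]
  simp

/-- A chosen intertwiner. -/
noncomputable def T (g : Matrix.symplecticGroup (Fin n) F) : W F n ≃ₗ[ℂ] W F n :=
  (exists_intertwiner h2 g).choose

theorem T_spec (g : Matrix.symplecticGroup (Fin n) F) (v : V2 F n) :
    (T h2 g).toLinearMap * D v = D (g.1 *ᵥ v) * (T h2 g).toLinearMap :=
  (exists_intertwiner h2 g).choose_spec v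

theorem T_mul (g h : Matrix.symplecticGroup (Fin n) F) :
    ∃ c : ℂ, c ≠ 0 ∧ (T h2 g).toLinearMap * (T h2 h).toLinearMap = c • (T h2 (g * h)).toLinearMap := by
  set A := (T h2 g).toLinearMap
  set B := (T h2 h).toLinearMap
  set C := (T h2 (g * h)).toLinearMap
  set C' := (T h2 (g * h)).symm.toLinearMap
  have hCC : C * C' = 1 := LinearMap.ext fun f => (T h2 (g * h)).apply_symm_apply f
  have hC'C : C' * C = 1 := LinearMap.ext fun f => (T h2 (g * h)).symm_apply_apply f
  obtain ⟨c, hc⟩ := scalar_of_commute h2 (C' * (A * B)) fun v => by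
    have h1 : A * B * D v = D ((g * h).1 *ᵥ v) * (A * B) := by
      rw [mul_assoc, T_spec, ← mul_assoc, T_spec, mul_assoc, Matrix.mulVec_mulVec]
      rfl
    have h3 : C' * D ((g * h).1 *ᵥ v) = D v * C' := by
      calc C' * D ((g * h).1 *ᵥ v) = C' * D ((g * h).1 *ᵥ v) * (C * C') := by rw [hCC, mul_one]
        _ = C' * (D ((g * h).1 *ᵥ v) * C) * C' := by noncomm_ring
        _ = C' * (C * D v) * C' := by rw [T_spec]
        _ = _ := by rw [← mul_assoc, hC'C, one_mul]
    rw [mul_assoc, h1, ← mul_assoc, h3, mul_assoc]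
  have e : A * B = c • C := by
    rw [← one_mul (A * B), ← hCC, mul_assoc, hc, mul_smul_comm, mul_one]
  refine ⟨c, fun h0 => ?_, e⟩
  rw [h0, zero_smul] at e
  exact one_ne_zero (α := ℂ) <| congrFun (((T h2 h).trans (T h2 g)).injective
    (a₁ := fun _ => (1 : ℂ)) (a₂ := 0) (by
      show (A * B) (fun _ => (1 : ℂ)) = (A * B) 0
      rw [e]; simp)) 0

/-- The parity operator. -/
noncomputable def P : Module.End ℂ (W F n) where
  toFun f := fun x => f (-x)
  map_add' _ _ := rfl
  map_smul' _ _ := rfl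

omit [DecidableEq F] in
theorem P_sq : P * P = (1 : Module.End ℂ (W F n)) :=
  LinearMap.ext fun f => funext fun x => by
    show f (- -x) = f x
    rw [neg_neg]

omit [DecidableEq F] in
theorem P_D (v : V2 F n) : P * D v = D (-v) * P := by
  refine LinearMap.ext fun f => funext fun x => ?_
  show D v f (-x) = D (-v) (P f) x
  rw [D_apply, D_apply, show fs (-v) = -fs v from rfl, show sn (-v) = -sn v from rfl]
  show _ = _ * f (-(x + -fs v))
  rw [dotProduct_neg, neg_dotProduct, neg_dotProduct, dotProduct_neg, neg_neg, neg_add, neg_neg]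

include h2 in
theorem trace_P : LinearMap.trace ℂ (W F n) P = 1 := by
  rw [LinearMap.trace_eq_matrix_trace ℂ (Pi.basisFun ℂ (Fin n → F)), Matrix.trace,
    Finset.sum_eq_single (0 : Fin n → F) (fun x _ hx => ?_) (by simp)]
  · simp [Matrix.diag, LinearMap.toMatrix_apply, P]
  · have : -x ≠ x := fun h => hx (funext fun i => by
      have h' := congrFun h i
      exact (mul_eq_zero.1 (show (2 : F) * x i = 0 by
        rw [Pi.neg_apply] at h'; linear_combination -h')).resolve_left h2)
    simp [Matrix.diag, LinearMap.toMatrix_apply, P, Pi.single_apply, this]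

theorem T_P (g : Matrix.symplecticGroup (Fin n) F) :
    (T h2 g).toLinearMap * P = P * (T h2 g).toLinearMap := by
  set A := (T h2 g).toLinearMap
  set A' := (T h2 g).symm.toLinearMap
  have hAA : A * A' = 1 := LinearMap.ext fun f => (T h2 g).apply_symm_apply f
  have hA'A : A' * A = 1 := LinearMap.ext fun f => (T h2 g).symm_apply_apply f
  have hA' : ∀ v, A' * D (g.1 *ᵥ v) = D v * A' := fun v => by
    calc A' * D (g.1 *ᵥ v) = A' * (D (g.1 *ᵥ v) * A) * A' := by rw [mul_assoc, mul_assoc (D _), hAA, mul_one]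
      _ = A' * (A * D v) * A' := by rw [T_spec]
      _ = _ := by rw [← mul_assoc, hA'A, one_mul]
  obtain ⟨s, hs⟩ := scalar_of_commute h2 (A * P * A' * P) fun v => by
    obtain ⟨w, rfl⟩ : ∃ w, v = g.1 *ᵥ w := ⟨(g⁻¹).1 *ᵥ v, by
      rw [Matrix.mulVec_mulVec, show g.1 * (g⁻¹).1 = 1 from congrArg Subtype.val (mul_inv_cancel g),
        Matrix.one_mulVec]⟩
    calc A * P * A' * P * D (g.1 *ᵥ w) = A * P * (A' * D (g.1 *ᵥ -w)) * P := by
          rw [mul_assoc (A * P * A') P, P_D, Matrix.mulVec_neg]; noncomm_ring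
      _ = A * (P * D (-w)) * A' * P := by rw [hA']; noncomm_ring
      _ = (A * D w) * P * A' * P := by rw [P_D, neg_neg]; noncomm_ring
      _ = _ := by rw [T_spec]; noncomm_ring
  have e : A * P * A' = s • P := by
    calc A * P * A' = A * P * A' * P * P := by rw [mul_assoc (A * P * A'), P_sq, mul_one]
      _ = s • P := by rw [hs, smul_mul_assoc, one_mul]
  have hs1 : s = 1 := by
    have h := congrArg (LinearMap.trace ℂ (W F n)) e
    rw [map_smul, trace_P h2, smul_eq_mul, mul_one] at h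
    rw [← h, LinearMap.trace_mul_comm, ← mul_assoc, hA'A, one_mul, trace_P h2]
  rw [hs1, one_smul] at e
  conv_rhs => rw [← e]
  rw [mul_assoc (A * P), hA'A, mul_one]

/-- The two parity subspaces. -/
noncomputable def Wpar (ε : ℂ) : Submodule ℂ (W F n) := LinearMap.ker (P - ε • (1 : Module.End ℂ (W F n)))

omit [DecidableEq F] in
theorem mem_Wpar {ε : ℂ} {f : W F n} : f ∈ Wpar ε ↔ P f = ε • f := by
  rw [Wpar, LinearMap.mem_ker, LinearMap.sub_apply, LinearMap.smul_apply, Module.End.one_apply, sub_eq_zero]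

theorem T_mem (g : Matrix.symplecticGroup (Fin n) F) (ε : ℂ) :
    ∀ f ∈ (Wpar ε : Submodule ℂ (W F n)), (T h2 g).toLinearMap f ∈ (Wpar ε : Submodule ℂ (W F n)) := fun f hf => by
  rw [mem_Wpar] at hf ⊢
  rw [← Module.End.mul_apply, ← T_P, Module.End.mul_apply, hf, map_smul]

include h2 in
theorem finrank_Wpar (ε : ℂ) (hε : ε * ε = 1) :
    (2 : ℂ) * finrank ℂ (Wpar ε : Submodule ℂ (W F n)) = (Fintype.card F : ℂ) ^ n + ε := by
  set E : Module.End ℂ (W F n) := (2 : ℂ)⁻¹ • (1 + ε • P) with hE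
  have hproj : LinearMap.IsProj (Wpar ε) E := by
    constructor
    · intro f
      rw [mem_Wpar, hE, LinearMap.smul_apply, map_smul, smul_comm ε (2 : ℂ)⁻¹]
      congr 1
      rw [LinearMap.add_apply, Module.End.one_apply, LinearMap.smul_apply, map_add, map_smul,
        ← Module.End.mul_apply P P, P_sq, Module.End.one_apply, smul_add, smul_smul, hε, one_smul, add_comm]
    · intro f hf
      rw [mem_Wpar] at hf
      rw [hE, LinearMap.smul_apply, LinearMap.add_apply, Module.End.one_apply, LinearMap.smul_apply, hf, smul_smul,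
        hε, one_smul, ← two_smul ℂ f, inv_smul_smul₀ two_ne_zero]
  rw [← hproj.trace, hE, map_smul, map_add, map_smul, trace_P h2, LinearMap.trace_one,
    Module.finrank_fintype_fun_eq_card, smul_eq_mul, smul_eq_mul]
  simp

/-- Determinant on a parity subspace. -/
noncomputable def dT (g : Matrix.symplecticGroup (Fin n) F) (ε : ℂ) : ℂ :=
  LinearMap.det ((T h2 g).toLinearMap.restrict (T_mem h2 g ε))

theorem dT_ne (g : Matrix.symplecticGroup (Fin n) F) (ε : ℂ) : dT h2 g ε ≠ 0 := by
  have hinj : Function.Injective ((T h2 g).toLinearMap.restrict (T_mem h2 g ε)) := fun x y h =>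
    Subtype.ext ((T h2 g).injective (congrArg Subtype.val h))
  exact (IsUnit.map LinearMap.det ((Module.End.isUnit_iff _).2
    ⟨hinj, LinearMap.injective_iff_surjective.1 hinj⟩)).ne_zero

theorem dT_mul (g h : Matrix.symplecticGroup (Fin n) F) (ε : ℂ) {c : ℂ}
    (hc : (T h2 g).toLinearMap * (T h2 h).toLinearMap = c • (T h2 (g * h)).toLinearMap) :
    dT h2 g ε * dT h2 h ε = c ^ finrank ℂ (Wpar ε : Submodule ℂ (W F n)) * dT h2 (g * h) ε := by
  rw [dT, dT, dT, ← map_mul, ← LinearMap.det_smul]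
  congr 1
  exact LinearMap.ext fun f => Subtype.ext (LinearMap.congr_fun hc (f : W F n))

include h2 in
theorem finrank_succ :
    finrank ℂ (Wpar 1 : Submodule ℂ (W F n)) = finrank ℂ (Wpar (-1) : Submodule ℂ (W F n)) + 1 := by
  have a := finrank_Wpar (n := n) h2 1 (one_mul 1)
  have b := finrank_Wpar (n := n) h2 (-1) (by norm_num)
  have : ((2 * finrank ℂ (Wpar 1 : Submodule ℂ (W F n)) : ℕ) : ℂ) =
      ((2 * (finrank ℂ (Wpar (-1) : Submodule ℂ (W F n)) + 1) : ℕ) : ℂ) := by
    push_cast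
    linear_combination a - b
  have := Nat.cast_injective this
  omega

/-- The linearised intertwiners. -/
noncomputable def R (g : Matrix.symplecticGroup (Fin n) F) : Module.End ℂ (W F n) :=
  (dT h2 g (-1) / dT h2 g 1) • (T h2 g).toLinearMap

theorem R_mul (g h : Matrix.symplecticGroup (Fin n) F) : R h2 g * R h2 h = R h2 (g * h) := by
  obtain ⟨c, hc0, hc⟩ := T_mul h2 g h
  rw [R, R, R, smul_mul_smul_comm, hc, smul_smul]
  congr 1
  have e1 := dT_mul h2 g h 1 hc
  have e2 := dT_mul h2 g h (-1) hc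
  rw [finrank_succ h2, pow_succ] at e1
  rw [div_mul_div_comm, e1, e2]
  have := dT_ne h2 (g * h) 1
  have := pow_ne_zero (finrank ℂ (Wpar (-1) : Submodule ℂ (W F n))) hc0
  field_simp

theorem R_D (g : Matrix.symplecticGroup (Fin n) F) (v : V2 F n) : R h2 g * D v = D (g.1 *ᵥ v) * R h2 g := by
  rw [R, smul_mul_assoc, T_spec, mul_smul_comm]

theorem R_one : R h2 (1 : Matrix.symplecticGroup (Fin n) F) = 1 := by
  have hinj : Function.Injective (R h2 (1 : Matrix.symplecticGroup (Fin n) F)) := fun x y h => by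
    rw [R, LinearMap.smul_apply, LinearMap.smul_apply] at h
    exact (T h2 1).injective (smul_right_injective _ (div_ne_zero (dT_ne h2 _ _) (dT_ne h2 _ _)) h)
  refine LinearMap.ext fun f => hinj ?_
  rw [← Module.End.mul_apply, R_mul, one_mul, Module.End.one_apply]

theorem R_mem (g : Matrix.symplecticGroup (Fin n) F) :
    ∀ f ∈ (Wpar (-1) : Submodule ℂ (W F n)), R h2 g f ∈ (Wpar (-1) : Submodule ℂ (W F n)) := fun f hf =>
  Submodule.smul_mem _ _ (T_mem h2 g _ f hf)

/-- The odd Weil representation. -/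
noncomputable def weil :
    Representation ℂ (Matrix.symplecticGroup (Fin n) F) (Wpar (-1) : Submodule ℂ (W F n)) where
  toFun g := (R h2 g).restrict (R_mem h2 g)
  map_one' := LinearMap.ext fun f => Subtype.ext (by
    show R h2 1 (f : W F n) = (f : W F n)
    rw [R_one]; rfl)
  map_mul' g h := LinearMap.ext fun f => Subtype.ext (by
    show R h2 (g * h) f = R h2 g (R h2 h f)
    rw [← R_mul]; rfl)

include h2 in
/-- The sum of all Weyl operators is a multiple of the parity operator. -/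
theorem sum_D : ∃ t : ℂ, ∑ v : V2 F n, D v = t • P := by
  refine ⟨(Fintype.card F : ℂ) ^ n, LinearMap.ext fun f => funext fun x => ?_⟩
  rw [LinearMap.sum_apply, Finset.sum_apply, ← (Equiv.sumArrowEquivProdArrow (Fin n) (Fin n) F).symm.sum_comp,
    Fintype.sum_prod_type]
  show ∑ a : Fin n → F, ∑ b : Fin n → F, ψ (b ⬝ᵥ x + a ⬝ᵥ b / 2) * f (x + a) =
    (Fintype.card F : ℂ) ^ n * f (-x)
  rw [Finset.sum_eq_single (-x - x) (fun a _ ha => ?_) (by simp)]
  · have hin : ∀ b : Fin n → F, b ⬝ᵥ x + (-x - x) ⬝ᵥ b / 2 = 0 := fun b => by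
      rw [sub_dotProduct, neg_dotProduct, dotProduct_comm x b]; field_simp; ring
    simp only [hin, AddChar.map_zero_eq_one, one_mul]
    rw [Finset.sum_const, Finset.card_univ, Fintype.card_fun, Fintype.card_fin, nsmul_eq_mul,
      show x + (-x - x) = -x by abel, Nat.cast_pow]
  · obtain ⟨u, hu⟩ : ∃ u : Fin n → F, u = x + (2 : F)⁻¹ • a := ⟨_, rfl⟩
    have hu0 : u ≠ 0 := fun h => ha (by
      rw [hu] at h
      funext i
      have hi := congrFun h i
      simp only [Pi.add_apply, Pi.smul_apply, smul_eq_mul, Pi.zero_apply] at hi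
      rw [Pi.sub_apply, Pi.neg_apply]
      have : a i * ((2 : F) * 2⁻¹) = -x i - x i := by linear_combination (2 : F) * hi
      rwa [mul_inv_cancel₀ h2, mul_one] at this)
    have hb : ∀ b : Fin n → F, b ⬝ᵥ x + a ⬝ᵥ b / 2 = u ⬝ᵥ b := fun b => by
      rw [hu, add_dotProduct, smul_dotProduct, dotProduct_comm b x, smul_eq_mul]
      ring
    simp only [hb, ← Finset.sum_mul]
    let χ : AddChar (Fin n → F) ℂ :=
      { toFun := fun b => ψ (u ⬝ᵥ b)
        map_zero_eq_one' := by simp
        map_add_eq_mul' := fun b c => by rw [dotProduct_add, AddChar.map_add_eq_mul] }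
    have hχ : χ ≠ 1 := by
      rw [AddChar.ne_one_iff]
      obtain ⟨i, hi⟩ := Function.ne_iff.1 hu0
      obtain ⟨t, ht⟩ := ψ_ne hi
      exact ⟨Pi.single i t, by simpa [χ, dotProduct_single] using ht⟩
    rw [show ∑ b : Fin n → F, ψ (u ⬝ᵥ b) = 0 from AddChar.sum_eq_zero_of_ne_one hχ, zero_mul]

include h2 in
/-- Irreducibility of the odd Weil representation. -/
theorem weil_irreducible (hn : 0 < n) : (weil (F := F) (n := n) h2).IsIrreducible := by
  classical
  have hq : 1 < Fintype.card F := Fintype.one_lt_card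
  haveI : Nontrivial (Subrepresentation (weil (F := F) (n := n) h2)) := by
    refine ⟨⟨⊥, ⊤, fun h => ?_⟩⟩
    have h' := congrArg Subrepresentation.toSubmodule h
    have hd : finrank ℂ (Wpar (-1) : Submodule ℂ (W F n)) = 0 := by
      have : (⊥ : Submodule ℂ (Wpar (-1) : Submodule ℂ (W F n))) = ⊤ := h'
      rw [← finrank_top, ← this, finrank_bot]
    have e := finrank_Wpar (n := n) h2 (-1) (by norm_num)
    rw [hd] at e
    have : ((Fintype.card F ^ n : ℕ) : ℂ) = ((1 : ℕ) : ℂ) := by push_cast; linear_combination -e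
    exact absurd (Nat.cast_injective this) (Nat.one_lt_pow hn.ne' hq).ne'
  refine ⟨fun U => ?_⟩
  by_cases hU : U.toSubmodule = ⊥
  · exact Or.inl (Subrepresentation.ext hU)
  right
  set U' : Submodule ℂ (W F n) := U.toSubmodule.map (Wpar (-1) : Submodule ℂ (W F n)).subtype with hU'
  have hU'R : ∀ g, ∀ f ∈ U', R h2 g f ∈ U' := by
    rintro g _ ⟨f, hf, rfl⟩
    exact ⟨_, U.apply_mem_toSubmodule g hf, rfl⟩
  obtain ⟨π, hπ⟩ := LinearMap.exists_leftInverse_of_injective U'.subtype U'.ker_subtype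
  set G := Matrix.symplecticGroup (Fin n) F
  haveI : Fintype G := Fintype.ofFinite _
  set E0 : Module.End ℂ (W F n) := U'.subtype ∘ₗ π
  set E : Module.End ℂ (W F n) := (Fintype.card G : ℂ)⁻¹ • ∑ g : G, R h2 g * E0 * R h2 g⁻¹ with hE
  have hEinv : ∀ h : G, R h2 h * E = E * R h2 h := fun h => by
    rw [hE, mul_smul_comm, smul_mul_assoc, Finset.mul_sum, Finset.sum_mul]
    congr 1
    refine Fintype.sum_equiv (Equiv.mulLeft h) _ _ fun g => ?_
    show R h2 h * (R h2 g * E0 * R h2 g⁻¹) = R h2 (h * g) * E0 * R h2 (h * g)⁻¹ * R h2 h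
    rw [mul_assoc _ (R h2 (h * g)⁻¹), R_mul, _root_.mul_inv_rev, inv_mul_cancel_right, ← R_mul h2 h g]
    noncomm_ring
  have hEU : ∀ f ∈ U', E f = f := by
    intro f hf
    rw [hE, LinearMap.smul_apply, LinearMap.sum_apply, Finset.sum_eq_card_nsmul (b := f) (fun g _ => ?_),
      Finset.card_univ, ← Nat.cast_smul_eq_nsmul ℂ, inv_smul_smul₀ (Nat.cast_ne_zero.2 Fintype.card_ne_zero)]
    show R h2 g (E0 (R h2 g⁻¹ f)) = f
    rw [show E0 (R h2 g⁻¹ f) = R h2 g⁻¹ f from
      congrArg Subtype.val (LinearMap.congr_fun hπ ⟨_, hU'R g⁻¹ f hf⟩), ← Module.End.mul_apply, R_mul,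
      mul_inv_cancel, R_one, Module.End.one_apply]
  have hEim : ∀ f, E f ∈ U' := by
    intro f
    rw [hE, LinearMap.smul_apply, LinearMap.sum_apply]
    exact Submodule.smul_mem _ _ (Submodule.sum_mem _ fun g _ => hU'R g _ (π _).2)
  set c := bD.repr E with hc
  have hinv : ∀ (g : G) v, c (g.1 *ᵥ v) = c v := by
    intro g v
    have h1 : R h2 g * E * R h2 g⁻¹ = E := by rw [hEinv, mul_assoc, R_mul, mul_inv_cancel, R_one, mul_one]
    have h3 : ∀ w, R h2 g * D w * R h2 g⁻¹ = D (g.1 *ᵥ w) := fun w => by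
      rw [R_D, mul_assoc, R_mul, mul_inv_cancel, R_one, mul_one]
    have hginj : Function.Injective fun w : V2 F n => g.1 *ᵥ w :=
      Matrix.mulVec_injective_of_isUnit ⟨⟨g.1, (g⁻¹).1, congrArg Subtype.val (mul_inv_cancel g),
        congrArg Subtype.val (inv_mul_cancel g)⟩, rfl⟩
    conv_lhs => rw [hc, ← h1, ← bD.sum_repr E]
    simp only [Finset.mul_sum, Finset.sum_mul, mul_smul_comm, smul_mul_assoc, bD_apply, h3]
    simp only [map_sum, map_smul, Finsupp.finset_sum_apply, Finsupp.smul_apply, ← bD_apply, Basis.repr_self,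
      Finsupp.single_apply, smul_eq_mul, mul_ite, mul_one, mul_zero, hginj.eq_iff, Finset.sum_ite_eq',
      Finset.mem_univ, if_true]
    rfl
  obtain ⟨β, hβ⟩ : ∃ β, ∀ v, v ≠ 0 → c v = β := by
    by_cases h : ∃ v : V2 F n, v ≠ 0
    · obtain ⟨v0, hv0⟩ := h
      refine ⟨c v0, fun v hv => ?_⟩
      obtain ⟨g, hg⟩ := SympTransvection.transitive hv0 hv
      rw [← hg, hinv]
    · exact ⟨0, fun v hv => absurd ⟨v, hv⟩ h⟩
  obtain ⟨t, ht⟩ := sum_D (n := n) h2
  have hE' : E = (c 0 - β) • 1 + (β * t) • P := by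
    rw [mul_smul β t, ← ht, ← D_zero, Finset.smul_sum]
    conv_lhs => rw [← bD.sum_repr E]
    simp only [bD_apply, ← hc]
    rw [← Finset.add_sum_erase _ _ (Finset.mem_univ (0 : V2 F n)),
      ← Finset.add_sum_erase _ _ (Finset.mem_univ (0 : V2 F n)), ← add_assoc, ← add_smul, sub_add_cancel]
    refine congrArg _ (Finset.sum_congr rfl fun v hv => ?_)
    rw [hβ v (Finset.ne_of_mem_erase hv)]
  have hsc : ∀ f ∈ (Wpar (-1) : Submodule ℂ (W F n)), E f = (c 0 - β - β * t) • f := fun f hf => by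
    rw [mem_Wpar] at hf
    rw [hE', LinearMap.add_apply, LinearMap.smul_apply, LinearMap.smul_apply, Module.End.one_apply, hf, smul_smul,
      ← add_smul]
    congr 1
    ring
  obtain ⟨u, huU, hu0⟩ := Submodule.exists_mem_ne_zero_of_ne_bot hU
  have hs : c 0 - β - β * t = 1 := by
    have h1 := hsc _ u.2
    rw [hEU (u : W F n) ⟨u, huU, rfl⟩] at h1
    by_contra hne
    have : ((c 0 - β - β * t) - 1) • (u : W F n) = 0 := by rw [sub_smul, one_smul, ← h1, sub_self]
    exact hu0 (Subtype.ext ((smul_eq_zero.1 this).resolve_left (sub_ne_zero.2 hne)))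
  refine Subrepresentation.ext (eq_top_iff.2 fun f _ => ?_)
  have h1 := hEim (f : W F n)
  rw [hsc _ f.2, hs, one_smul] at h1
  obtain ⟨f', hf', e⟩ := h1
  rwa [Subtype.ext e] at hf'

include h2 in
/-- The odd Weil representation in coordinates. -/
theorem exists_rep (hn : 0 < n) : ∃ ρ : Representation ℂ (Matrix.symplecticGroup (Fin n) F)
    (Fin ((Fintype.card F ^ n - 1) / 2) → ℂ), ρ.IsIrreducible := by
  have hd : finrank ℂ (Wpar (-1) : Submodule ℂ (W F n)) = (Fintype.card F ^ n - 1) / 2 := by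
    have e := finrank_Wpar (n := n) h2 (-1) (by norm_num)
    have : ((2 * finrank ℂ (Wpar (-1) : Submodule ℂ (W F n)) + 1 : ℕ) : ℂ) = ((Fintype.card F ^ n : ℕ) : ℂ) := by
      push_cast; linear_combination e
    have := Nat.cast_injective this
    omega
  let e : (Wpar (-1) : Submodule ℂ (W F n)) ≃ₗ[ℂ] (Fin ((Fintype.card F ^ n - 1) / 2) → ℂ) :=
    LinearEquiv.ofFinrankEq _ _ (by rw [hd, Module.finrank_fintype_fun_eq_card, Fintype.card_fin])
  let ρ : Representation ℂ (Matrix.symplecticGroup (Fin n) F) (Fin ((Fintype.card F ^ n - 1) / 2) → ℂ) :=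
    { toFun := fun g => e.conj (weil h2 g)
      map_one' := by rw [map_one]; exact e.conj_id
      map_mul' := fun g h => by rw [map_mul]; exact (e.conj_comp _ _) }
  have hρ : ∀ g f, ρ g (e f) = e (weil h2 g f) := fun g f => by simp [ρ, LinearEquiv.conj_apply]
  haveI := weil_irreducible h2 hn
  refine ⟨ρ, (OrderIso.isSimpleOrder_iff (α := Subrepresentation (weil (F := F) (n := n) h2)) ?_).1 inferInstance⟩
  exact
    { toFun := fun U => ⟨U.toSubmodule.map e.toLinearMap, by
        rintro g _ ⟨f, hf, rfl⟩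
        exact ⟨weil h2 g f, U.apply_mem_toSubmodule g hf, (hρ g f).symm⟩⟩
      invFun := fun U => ⟨U.toSubmodule.comap e.toLinearMap, fun g f hf => by
        rw [Submodule.mem_comap] at hf ⊢
        rw [LinearEquiv.coe_coe, ← hρ]
        exact U.apply_mem_toSubmodule g hf⟩
      left_inv := fun U => Subrepresentation.ext (Submodule.comap_map_eq_of_injective e.injective _)
      right_inv := fun U => Subrepresentation.ext (Submodule.map_comap_eq_of_surjective e.surjective _)
      map_rel_iff' := fun {U U'} => by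
        show U.toSubmodule.map e.toLinearMap ≤ U'.toSubmodule.map e.toLinearMap ↔ U.toSubmodule ≤ U'.toSubmodule
        exact Submodule.map_le_map_iff_of_injective e.injective _ _ }

end CfsgLib.SympWeil
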