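import Mathlib
import Cfsg.Agent.Lib.SympWeil.Basic
import Cfsg.Agent.Lib.SympSimple

/-! The Landázuri–Seitz bound for symplectic groups over fields of odd order. -/

set_option autoImplicit false
set_option maxHeartbeats 800000

namespace CfsgLib.SympWeil

open Module Matrix
open scoped commutatorElement

variable {F : Type*} [Field F] [Fintype F] [DecidableEq F] {n : ℕ}

/-- Symmetric matrices. -/
def Sym (F : Type*) [Field F] (n : ℕ) : Submodule F (Matrix (Fin n) (Fin n) F) where
  carrier := {S | Sᵀ = S}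
  add_mem' {A B} hA hB := by
    show (A + B)ᵀ = A + B
    rw [Matrix.transpose_add, show Aᵀ = A from hA, show Bᵀ = B from hB]
  zero_mem' := Matrix.transpose_zero
  smul_mem' c A hA := by
    show (c • A)ᵀ = c • A
    rw [Matrix.transpose_smul, show Aᵀ = A from hA]

/-- The Siegel unipotent element. -/
def sieg (S : Sym F n) : Matrix.symplecticGroup (Fin n) F :=
  ⟨Matrix.fromBlocks 1 S.1 0 1, by
    rw [SymplecticGroup.mem_iff, Matrix.J, Matrix.fromBlocks_multiply, Matrix.fromBlocks_transpose,
      Matrix.fromBlocks_multiply]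
    simp [show S.1ᵀ = S.1 from S.2]⟩

omit [Fintype F] [DecidableEq F] in
theorem sieg_add (S T : Sym F n) : sieg (S + T) = sieg S * sieg T := by
  refine Subtype.ext ?_
  show Matrix.fromBlocks 1 (S.1 + T.1) 0 1 = Matrix.fromBlocks 1 S.1 0 1 * Matrix.fromBlocks 1 T.1 0 1
  rw [Matrix.fromBlocks_multiply]
  simp [add_comm]

omit [Fintype F] [DecidableEq F] in
theorem sieg_zero : sieg (0 : Sym F n) = 1 := Subtype.ext Matrix.fromBlocks_one

/-- A Levi element. -/
def levi (g : GL (Fin n) F) : Matrix.symplecticGroup (Fin n) F :=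
  ⟨Matrix.fromBlocks g.1 0 0 (g⁻¹).1ᵀ, by
    rw [SymplecticGroup.mem_iff, Matrix.J, Matrix.fromBlocks_multiply, Matrix.fromBlocks_transpose,
      Matrix.fromBlocks_multiply]
    simp [← Matrix.transpose_mul]⟩

/-- Congruence on symmetric matrices. -/
def cg (g : GL (Fin n) F) : Sym F n →ₗ[F] Sym F n where
  toFun S := ⟨g.1 * S.1 * g.1ᵀ, by
    show (g.1 * S.1 * g.1ᵀ)ᵀ = _
    rw [Matrix.transpose_mul, Matrix.transpose_mul, Matrix.transpose_transpose, show S.1ᵀ = S.1 from S.2,
      Matrix.mul_assoc]⟩
  map_add' S T := Subtype.ext (by simp [Matrix.mul_add, Matrix.add_mul])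
  map_smul' c S := Subtype.ext (by simp)

omit [Fintype F] [DecidableEq F] in
theorem levi_sieg (g : GL (Fin n) F) (S : Sym F n) : levi g * sieg S = sieg (cg g S) * levi g := by
  refine Subtype.ext ?_
  show Matrix.fromBlocks g.1 0 0 (g⁻¹).1ᵀ * Matrix.fromBlocks 1 S.1 0 1 =
    Matrix.fromBlocks 1 (g.1 * S.1 * g.1ᵀ) 0 1 * Matrix.fromBlocks g.1 0 0 (g⁻¹).1ᵀ
  rw [Matrix.fromBlocks_multiply, Matrix.fromBlocks_multiply, Matrix.mul_assoc (g.1 * S.1) g.1ᵀ (g⁻¹).1ᵀ,
    ← Matrix.transpose_mul]
  simp

omit [Fintype F] [DecidableEq F] in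
/-- Moving one functional to another. -/
theorem exists_move {μ ν : (Fin n → F) →ₗ[F] F} {a : F} (ha : a ≠ 0) {e v : Fin n → F} (he : μ e = a)
    (hv : ν v = a) : ∃ g : GL (Fin n) F, ∀ x, μ (g.1 *ᵥ x) = ν x := by
  have hμ : μ ≠ 0 := fun h => ha (by rw [← he, h]; rfl)
  have hν : ν ≠ 0 := fun h => ha (by rw [← hv, h]; rfl)
  have hdim : finrank F (LinearMap.ker ν) = finrank F (LinearMap.ker μ) := by
    have h1 := Module.Dual.finrank_ker_add_one_of_ne_zero hν
    have h2 := Module.Dual.finrank_ker_add_one_of_ne_zero hμ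
    omega
  let κ := LinearEquiv.ofFinrankEq (LinearMap.ker ν) (LinearMap.ker μ) hdim
  let pr : (Fin n → F) →ₗ[F] LinearMap.ker ν :=
    (LinearMap.id - LinearMap.smulRight (a⁻¹ • ν) v).codRestrict _ fun x => by
      rw [LinearMap.mem_ker]
      simp [hv]
      field_simp
      ring
  let T : (Fin n → F) →ₗ[F] (Fin n → F) :=
    LinearMap.smulRight (a⁻¹ • ν) e + (LinearMap.ker μ).subtype ∘ₗ κ.toLinearMap ∘ₗ pr
  have hT : ∀ x, μ (T x) = ν x := fun x => by
    show μ ((a⁻¹ • ν) x • e + ((κ (pr x)) : Fin n → F)) = ν x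
    rw [map_add, map_smul, he, LinearMap.mem_ker.1 (κ (pr x)).2, LinearMap.smul_apply, smul_eq_mul, smul_eq_mul,
      add_zero]
    field_simp
  have hinj : Function.Injective T := by
    rw [← LinearMap.ker_eq_bot, Submodule.eq_bot_iff]
    intro x hx
    rw [LinearMap.mem_ker] at hx
    have hνx : ν x = 0 := by rw [← hT x, hx, map_zero]
    have hpr : (pr x : Fin n → F) = x := by
      show x - (a⁻¹ • ν) x • v = x
      rw [LinearMap.smul_apply, hνx, smul_zero, zero_smul, sub_zero]
    have h0 : κ (pr x) = 0 := Subtype.ext (by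
      have : T x = (a⁻¹ • ν) x • e + ((κ (pr x)) : Fin n → F) := rfl
      rw [hx, LinearMap.smul_apply, hνx, smul_zero, zero_smul, zero_add] at this
      exact this.symm)
    rw [← hpr, (LinearEquiv.map_eq_zero_iff κ).1 h0]
    rfl
  have hdet : IsUnit (LinearMap.toMatrix' T) := by
    rw [← Matrix.mulVec_injective_iff_isUnit]
    intro x y h
    simp only [LinearMap.toMatrix'_mulVec] at h
    exact hinj h
  exact ⟨hdet.unit, fun x => by rw [IsUnit.unit_spec, LinearMap.toMatrix'_mulVec]; exact hT x⟩

/-- Orbits of nonzero linear functionals on symmetric matrices are large. -/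
theorem orbit_large (h2 : (2 : F) ≠ 0) (hn : 0 < n) (lam : Sym F n →ₗ[F] F) (hlam : lam ≠ 0) :
    ∀ O : Finset (Sym F n →ₗ[F] F), (∀ g : GL (Fin n) F, lam.comp (cg g) ∈ O) →
      Fintype.card F ^ n - 1 ≤ 2 * O.card := by
  classical
  intro O hO
  let sy : (Fin n → F) → (Fin n → F) → Sym F n := fun x y =>
    ⟨Matrix.vecMulVec x y + Matrix.vecMulVec y x, by
      show (Matrix.vecMulVec x y + Matrix.vecMulVec y x)ᵀ = _
      rw [Matrix.transpose_add, Matrix.transpose_vecMulVec, Matrix.transpose_vecMulVec, add_comm]⟩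
  have hsy2 : ∀ x y z, sy x (y + z) = sy x y + sy x z := fun x y z => Subtype.ext (by
    simp [sy, Matrix.vecMulVec_add, Matrix.add_vecMulVec]; abel)
  have hsys : ∀ (c : F) x y, sy x (c • y) = c • sy x y := fun c x y => Subtype.ext (by
    simp [sy, Matrix.vecMulVec_smul, Matrix.smul_vecMulVec, smul_add])
  have hsyc : ∀ x y, sy x y = sy y x := fun x y => Subtype.ext (add_comm _ _)
  let B : (Sym F n →ₗ[F] F) → (Fin n → F) → (Fin n → F) →ₗ[F] F := fun l x =>
    { toFun := fun y => l (sy x y)
      map_add' := fun y z => by rw [hsy2, map_add]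
      map_smul' := fun c y => by rw [hsys, map_smul]; rfl }
  have hB : ∀ l x y, B l x y = l (sy x y) := fun l x y => rfl
  have hBg : ∀ (g : GL (Fin n) F) x y, B (lam.comp (cg g)) x y = B lam (g.1 *ᵥ x) (g.1 *ᵥ y) := fun g x y => by
    rw [hB, hB, LinearMap.comp_apply]
    congr 1
    refine Subtype.ext ?_
    show g.1 * (Matrix.vecMulVec x y + Matrix.vecMulVec y x) * g.1ᵀ =
      Matrix.vecMulVec (g.1 *ᵥ x) (g.1 *ᵥ y) + Matrix.vecMulVec (g.1 *ᵥ y) (g.1 *ᵥ x)
    rw [Matrix.mul_add, Matrix.add_mul, Matrix.mul_vecMulVec, Matrix.mul_vecMulVec, Matrix.vecMulVec_mul,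
      Matrix.vecMulVec_mul, Matrix.vecMul_transpose, Matrix.vecMul_transpose]
  have hadd : ∀ x y, B lam (x + y) (x + y) = B lam x x + B lam y y + 2 * B lam x y := fun x y => by
    rw [hB, hsy2, hsyc (x + y) x, hsy2, hsyc (x + y) y, hsy2, map_add, map_add, map_add, hB, hB, hB, hsyc y x]
    ring
  obtain ⟨e, he⟩ : ∃ e, B lam e e ≠ 0 := by
    by_contra hcon
    push Not at hcon
    have hb : ∀ x y, lam (sy x y) = 0 := fun x y => by
      have := hadd x y
      rw [hcon, hcon, hcon, zero_add, zero_add] at this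
      exact (mul_eq_zero.1 this.symm).resolve_left h2
    refine hlam (LinearMap.ext fun S => ?_)
    have hS : (2 : F) • S = ∑ i, ∑ j, S.1 i j • sy (Pi.single i 1) (Pi.single j 1) := by
      refine Subtype.ext (Matrix.ext fun a b => ?_)
      simp only [sy, Submodule.coe_sum, Submodule.coe_smul, Matrix.sum_apply, Matrix.smul_apply, Matrix.add_apply,
        Matrix.vecMulVec_apply, smul_eq_mul, Pi.single_apply, mul_add, Finset.sum_add_distrib, mul_ite, ite_mul,
        mul_one, one_mul, mul_zero, zero_mul, Finset.sum_ite_irrel, Finset.sum_const_zero, Finset.sum_ite_eq,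
        Finset.mem_univ, if_true]
      have hsym : S.1 b a = S.1 a b := congrFun (congrFun S.2 a) b
      rw [hsym]
      ring
    have h := congrArg lam hS
    simp only [map_smul, map_sum, hb, smul_eq_mul, mul_zero, smul_zero, Finset.sum_const_zero] at h
    exact (mul_eq_zero.1 h).resolve_left h2
  have hq : 2 ≤ Fintype.card F := Fintype.one_lt_card
  haveI : Nonempty (Fin n) := ⟨⟨0, hn⟩⟩
  by_cases hall : ∀ a : F, a ≠ 0 → ∃ x, B lam x x = a
  · -- all values occur
    let i0 : Fin n := ⟨0, hn⟩
    let v : Fin n → F := Pi.single i0 1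
    let Ψ : (Sym F n →ₗ[F] F) → (Fin n → F) := fun l i => B l v (Pi.single i 1)
    have hsub : (Finset.univ.filter fun φ : Fin n → F => φ i0 ≠ 0) ⊆ O.image Ψ := by
      intro φ hφ
      rw [Finset.mem_filter] at hφ
      obtain ⟨e', he'⟩ := hall _ hφ.2
      let ν : (Fin n → F) →ₗ[F] F := ∑ i, φ i • LinearMap.proj i
      have hν : ∀ i, ν (Pi.single i 1) = φ i := fun i => by simp [ν, Pi.single_apply]
      obtain ⟨g, hg⟩ := exists_move (μ := B lam e') (ν := ν) hφ.2 (e := e') (v := v) he' (hν i0)
      have hker : ν v = B lam e' e' := (hν i0).trans he'.symm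
      obtain ⟨g', hg'v, hg'⟩ : ∃ g' : GL (Fin n) F, g'.1 *ᵥ v = e' ∧ ∀ x, B lam e' (g'.1 *ᵥ x) = ν x := by
        -- correct the image of `v`
        have hc : B lam e' (g.1 *ᵥ v) = B lam e' e' := (hg v).trans hker
        let S : (Fin n → F) →ₗ[F] (Fin n → F) :=
          LinearMap.id + LinearMap.smulRight ((B lam e' e')⁻¹ • B lam e') (e' - g.1 *ᵥ v)
        have hS : ∀ x, B lam e' (S x) = B lam e' x := fun x => by
          simp [S, hc]
        have hSinj : Function.Injective S := by
          rw [← LinearMap.ker_eq_bot, Submodule.eq_bot_iff]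
          intro x hx
          rw [LinearMap.mem_ker] at hx
          have h0 : B lam e' x = 0 := by rw [← hS x, hx, map_zero]
          simpa [S, h0] using hx
        have hdet : IsUnit (LinearMap.toMatrix' S) := by
          rw [← Matrix.mulVec_injective_iff_isUnit]
          intro x y h
          simp only [LinearMap.toMatrix'_mulVec] at h
          exact hSinj h
        refine ⟨hdet.unit * g, ?_, fun x => ?_⟩
        · rw [Units.val_mul, ← Matrix.mulVec_mulVec, IsUnit.unit_spec, LinearMap.toMatrix'_mulVec]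
          show g.1 *ᵥ v + ((B lam e' e')⁻¹ • B lam e') (g.1 *ᵥ v) • (e' - g.1 *ᵥ v) = e'
          rw [LinearMap.smul_apply, hc, smul_eq_mul, inv_mul_cancel₀ (by rw [he']; exact hφ.2), one_smul,
            add_sub_cancel]
        · rw [Units.val_mul, ← Matrix.mulVec_mulVec, IsUnit.unit_spec, LinearMap.toMatrix'_mulVec, hS, hg]
      refine Finset.mem_image.2 ⟨_, hO g', funext fun i => ?_⟩
      show B (lam.comp (cg g')) v (Pi.single i 1) = φ i
      rw [hBg, hg'v, hg', hν]
    have h1 := (Finset.card_le_card hsub).trans Finset.card_image_le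
    have h3 : (Finset.univ.filter fun φ : Fin n → F => φ i0 ≠ 0).card =
        (Fintype.card F - 1) * Fintype.card F ^ (n - 1) := by
      rw [show (Finset.univ.filter fun φ : Fin n → F => φ i0 ≠ 0) =
        Fintype.piFinset (fun i => if i = i0 then Finset.univ.erase (0 : F) else Finset.univ) by
          ext φ
          simp only [Finset.mem_filter, Finset.mem_univ, true_and, Fintype.mem_piFinset]
          constructor
          · intro h i
            split_ifs with hi
            · subst hi; simp [h]
            · simp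
          · intro h
            simpa using h i0]
      rw [Fintype.card_piFinset, ← Finset.mul_prod_erase _ _ (Finset.mem_univ i0), if_pos rfl,
        Finset.card_erase_of_mem (Finset.mem_univ _), Finset.card_univ,
        Finset.prod_congr rfl (fun i hi => by rw [if_neg (Finset.ne_of_mem_erase hi), Finset.card_univ]),
        Finset.prod_const, Finset.card_erase_of_mem (Finset.mem_univ _), Finset.card_univ, Fintype.card_fin]
    rw [h3] at h1
    obtain ⟨q', hq'⟩ : ∃ q', Fintype.card F = q' + 2 := ⟨Fintype.card F - 2, by omega⟩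
    have hpow : Fintype.card F ^ n = (q' + 2) * Fintype.card F ^ (n - 1) := by
      rw [← hq', ← pow_succ']; congr 1; omega
    rw [show Fintype.card F - 1 = q' + 1 by omega] at h1
    have : (q' + 2) * Fintype.card F ^ (n - 1) ≤ 2 * ((q' + 1) * Fintype.card F ^ (n - 1)) := by
      rw [← mul_assoc]; exact Nat.mul_le_mul_right _ (by omega)
    omega
  · -- rank one
    push Not at hall
    obtain ⟨a, ha, hmiss⟩ := hall
    set μ := B lam e with hμ
    set c := B lam e e with hc
    have hrank : ∀ x, B lam x x = μ x * μ x / c := by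
      intro x
      obtain ⟨y, hy⟩ : ∃ y, y = x - (μ x / c) • e := ⟨_, rfl⟩
      have hμy : μ y = 0 := by
        rw [hy, map_sub, map_smul, smul_eq_mul, hμ, ← hc]
        field_simp
        ring
      have hsum : ∀ s t : F, B lam (s • e + t • y) (s • e + t • y) = c * (s * s) + B lam y y * (t * t) := by
        intro s t
        rw [hadd]
        have e1 : ∀ (r : F) z w, B lam (r • z) w = r * B lam z w := fun r z w => by
          rw [hB, hsyc, hsys, map_smul, hsyc, smul_eq_mul]; rfl
        rw [e1, e1, e1, map_smul, map_smul, map_smul, ← hμ, hμy, ← hc]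
        simp only [smul_eq_mul]
        ring
      have hy0 : B lam y y = 0 := by
        by_contra hd
        obtain ⟨s, t, hst⟩ := FiniteField.exists_root_sum_quadratic (R := F)
          (f := Polynomial.C c * Polynomial.X ^ 2) (g := Polynomial.C (B lam y y) * Polynomial.X ^ 2 - Polynomial.C a)
          (Polynomial.degree_C_mul_X_pow 2 he)
          (by
            rw [Polynomial.degree_sub_eq_left_of_degree_lt (lt_of_le_of_lt Polynomial.degree_C_le
              (by rw [Polynomial.degree_C_mul_X_pow 2 hd]; norm_num)), Polynomial.degree_C_mul_X_pow 2 hd]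
            rfl)
          (by
            rcases Nat.even_or_odd (Fintype.card F) with hev | hodd
            · exfalso
              obtain ⟨p, hp⟩ := CharP.exists F
              exact h2 (by
                have := FiniteField.even_card_iff_char_two.2 (Nat.even_iff.1 hev)
                haveI := ringChar.of_eq this
                exact CharTwo.two_eq_zero)
            · exact Nat.odd_iff.1 hodd)
        refine hmiss (s • e + t • y) ?_
        rw [hsum]
        simp only [Polynomial.eval_mul, Polynomial.eval_C, Polynomial.eval_pow, Polynomial.eval_X,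
          Polynomial.eval_sub] at hst
        linear_combination hst
      have := hsum (μ x / c) 1
      rw [one_smul, show (μ x / c) • e + y = x by rw [hy]; abel, hy0] at this
      rw [this]
      field_simp
      ring
    let Ψ : (Fin n → F) → (Sym F n →ₗ[F] F) := fun φ =>
      if h : ∃ g : GL (Fin n) F, ∀ x, μ (g.1 *ᵥ x) = ∑ i, φ i * x i then lam.comp (cg h.choose) else lam
    have hΨ : ∀ φ : Fin n → F, φ ≠ 0 → Ψ φ ∈ O ∧
        ∀ x, B (Ψ φ) x x = (∑ i, φ i * x i) * (∑ i, φ i * x i) / c := by
      intro φ hφ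
      have hex : ∃ g : GL (Fin n) F, ∀ x, μ (g.1 *ᵥ x) = ∑ i, φ i * x i := by
        obtain ⟨i, hi⟩ := Function.ne_iff.1 hφ
        let ν : (Fin n → F) →ₗ[F] F := ∑ j, φ j • LinearMap.proj j
        obtain ⟨g, hg⟩ := exists_move (μ := μ) (ν := ν) he (e := e) (v := Pi.single i (c / φ i)) rfl
          (by simp [ν, Pi.single_apply]; field_simp [show φ i ≠ 0 from hi])
        exact ⟨g, fun x => (hg x).trans (by simp [ν])⟩
      refine ⟨by simp only [Ψ, dif_pos hex]; exact hO _, fun x => ?_⟩
      simp only [Ψ, dif_pos hex]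
      rw [hBg, hrank, hex.choose_spec]
    have hcard := Finset.card_le_mul_card_image (f := Ψ)
      (Finset.univ.filter fun φ : Fin n → F => φ ≠ 0) 2 (fun l hl => ?_)
    · rw [Finset.filter_ne', Finset.card_erase_of_mem (Finset.mem_univ _), Finset.card_univ, Fintype.card_fun,
        Fintype.card_fin] at hcard
      refine hcard.trans (Nat.mul_le_mul_left 2 (Finset.card_le_card ?_))
      intro l hl
      obtain ⟨φ, hφ, rfl⟩ := Finset.mem_image.1 hl
      exact (hΨ φ (Finset.ne_of_mem_erase hφ)).1
    · obtain ⟨φ, hφ, rfl⟩ := Finset.mem_image.1 hl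
      refine (Finset.card_le_card (t := {φ, -φ}) fun φ' hφ' => ?_).trans Finset.card_le_two
      simp only [Finset.mem_filter, Finset.mem_univ, true_and] at hφ' hφ
      have key : ∀ x : Fin n → F, (∑ i, φ' i * x i) = (∑ i, φ i * x i) ∨
          (∑ i, φ' i * x i) = -(∑ i, φ i * x i) := fun x => by
        have h1 := (hΨ φ' hφ'.1).2 x
        rw [hφ'.2, (hΨ φ hφ).2 x, div_left_inj' he] at h1
        exact mul_self_eq_mul_self_iff.1 h1.symm
      rw [Finset.mem_insert, Finset.mem_singleton]
      by_contra hcon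
      push Not at hcon
      obtain ⟨i, hi⟩ := Function.ne_iff.1 hcon.1
      obtain ⟨j, hj⟩ := Function.ne_iff.1 hcon.2
      simp only [Pi.neg_apply] at hj
      have ei := key (Pi.single i 1)
      have ej := key (Pi.single j 1)
      have eij := key (Pi.single i 1 + Pi.single j 1)
      simp [Pi.single_apply, mul_add, Finset.sum_add_distrib] at ei ej eij
      have ei' := ei.resolve_left hi
      have ej' := ej.resolve_right hj
      rcases eij with h | h
      · exact hi (by linear_combination h - ej')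
      · exact hj (by linear_combination h - ei')

/-- The bound. -/
theorem lower_bound (hn : 2 ≤ n) (h2 : (2 : F) ≠ 0) (k : ℕ)
    (ρ : Representation ℂ (Matrix.symplecticGroup (Fin n) F) (Fin k → ℂ)) (hirr : ρ.IsIrreducible) (hk : 2 ≤ k) :
    Fintype.card F ^ n - 1 ≤ 2 * k := by
  classical
  have hq : 3 ≤ Fintype.card F := by
    have := Fintype.one_lt_card (α := F)
    by_contra h
    have h' : Fintype.card F = 2 := by omega
    refine h2 ?_
    have := FiniteField.cast_card_eq_zero F
    rw [h'] at this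
    exact_mod_cast this
  haveI : Nonempty (Fin n) := ⟨⟨0, by omega⟩⟩
  haveI : IsSimpleOrder (Subrepresentation ρ) := hirr
  -- the radical acts non-trivially
  obtain ⟨S1, hS1⟩ : ∃ S : Sym F n, ρ (sieg S) ≠ 1 := by
    by_contra hcon
    push Not at hcon
    let K : Subgroup (Matrix.symplecticGroup (Fin n) F) :=
      { carrier := {g | ρ g = 1}
        mul_mem' := fun {a b} ha hb => by
          show ρ (a * b) = 1
          rw [map_mul, show ρ a = 1 from ha, show ρ b = 1 from hb, one_mul]
        one_mem' := map_one ρ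
        inv_mem' := fun {a} ha => by
          show ρ a⁻¹ = 1
          calc ρ a⁻¹ = ρ a⁻¹ * ρ a := by rw [show ρ a = 1 from ha, mul_one]
            _ = 1 := by rw [← map_mul, inv_mul_cancel, map_one] }
    haveI : K.Normal := ⟨fun a ha g => by
      show ρ (g * a * g⁻¹) = 1
      rw [map_mul, map_mul, show ρ a = 1 from ha, mul_one, ← map_mul, mul_inv_cancel, map_one]⟩
    let S0 : Sym F n := ⟨1, Matrix.transpose_one⟩
    have hnc : sieg S0 ∉ Subgroup.center _ := fun hc => by
      obtain ⟨r, hr⟩ := SympTransvection.scalar_of_central _ hc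
      have := congrFun (congrFun hr (Sum.inl ⟨0, by omega⟩)) (Sum.inr ⟨0, by omega⟩)
      simp [sieg, S0, Matrix.scalar_apply] at this
    haveI := SympSimple.simple (F := F) (m := n) hn (fun _ => hq)
    have hperf := SympSimple.perfect_fintype (F := F) (m := n)
      (by rcases Nat.lt_or_ge n 3 with h | h; exacts [Or.inr (Or.inl ⟨by omega, hq⟩), Or.inl h])
    let π := QuotientGroup.mk' (Subgroup.center (Matrix.symplecticGroup (Fin n) F))
    haveI : (K.map π).Normal := Subgroup.Normal.map inferInstance π (QuotientGroup.mk'_surjective _)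
    rcases IsSimpleGroup.eq_bot_or_eq_top_of_normal (K.map π) inferInstance with h | h
    · refine hnc ((QuotientGroup.eq_one_iff (sieg S0)).1 ?_)
      have : π (sieg S0) ∈ K.map π := ⟨_, hcon S0, rfl⟩
      rwa [h, Subgroup.mem_bot] at this
    · have hall : ∀ g, g ∈ K := by
        intro g
        have hg : g ∈ commutator (Matrix.symplecticGroup (Fin n) F) := hperf ▸ Subgroup.mem_top g
        refine (show commutator _ ≤ K from ?_) hg
        rw [_root_.commutator_def, Subgroup.commutator_le]
        intro a _ b _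
        obtain ⟨a', ha', hea⟩ : π a ∈ K.map π := h ▸ Subgroup.mem_top _
        obtain ⟨b', hb', heb⟩ : π b ∈ K.map π := h ▸ Subgroup.mem_top _
        obtain ⟨za, hza, rfl⟩ := QuotientGroup.eq_iff_div_mem.1 hea.symm |> fun h => (⟨a / a', h, (div_mul_cancel a a').symm⟩ :
          ∃ z, z ∈ Subgroup.center (Matrix.symplecticGroup (Fin n) F) ∧ a = z * a')
        obtain ⟨zb, hzb, rfl⟩ := QuotientGroup.eq_iff_div_mem.1 heb.symm |> fun h => (⟨b / b', h, (div_mul_cancel b b').symm⟩ :
          ∃ z, z ∈ Subgroup.center (Matrix.symplecticGroup (Fin n) F) ∧ b = z * b')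
        have e : ⁅za * a', zb * b'⁆ = ⁅a', b'⁆ := by
          have c1 := fun x => (Subgroup.mem_center_iff.1 hza x).symm
          have c2 := fun x => (Subgroup.mem_center_iff.1 hzb x).symm
          rw [commutatorElement_def, commutatorElement_def, _root_.mul_inv_rev, _root_.mul_inv_rev]
          calc za * a' * (zb * b') * (a'⁻¹ * za⁻¹) * (b'⁻¹ * zb⁻¹)
              = za * (a' * zb) * b' * a'⁻¹ * (za⁻¹ * b'⁻¹) * zb⁻¹ := by group
            _ = za * zb * a' * b' * a'⁻¹ * b'⁻¹ * za⁻¹ * zb⁻¹ := by
              rw [← c2 a', ((show Commute za b' from c1 b').inv_inv).eq]; group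
            _ = zb * za * (a' * b' * a'⁻¹ * b'⁻¹) * za⁻¹ * zb⁻¹ := by rw [c1 zb]; group
            _ = zb * (a' * b' * a'⁻¹ * b'⁻¹) * zb⁻¹ := by rw [mul_assoc zb za, c1]; group
            _ = _ := by rw [c2]; group
        rw [e]
        exact Subgroup.mul_mem _ (Subgroup.mul_mem _ (Subgroup.mul_mem _ ha' hb') (K.inv_mem ha')) (K.inv_mem hb')
      let w : Fin k → ℂ := Pi.single ⟨0, by omega⟩ 1
      let U : Subrepresentation ρ := ⟨ℂ ∙ w, fun g x hx => by rw [show ρ g = 1 from hall g]; exact hx⟩
      have hw : w ≠ 0 := fun h => by simpa [w] using congrFun h ⟨0, by omega⟩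
      rcases IsSimpleOrder.eq_bot_or_eq_top U with hU | hU
      · exact hw (Submodule.span_singleton_eq_bot.1 (congrArg Subrepresentation.toSubmodule hU))
      · have e : (ℂ ∙ w) = ⊤ := congrArg Subrepresentation.toSubmodule hU
        have := finrank_span_singleton (K := ℂ) hw
        rw [e, finrank_top, Module.finrank_fintype_fun_eq_card, Fintype.card_fin] at this
        omega
  -- character projections
  let Φ : (Sym F n →ₗ[F] F) → AddChar (Sym F n) ℂ := fun l =>
    { toFun := fun S => ψ (l S)
      map_zero_eq_one' := by simp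
      map_add_eq_mul' := fun S T => by rw [map_add, AddChar.map_add_eq_mul] }
  have hΦapp : ∀ l S, Φ l S = ψ (l S) := fun l S => rfl
  have hΦinj : Function.Injective Φ := fun l l' h => LinearMap.ext fun S => by
    by_contra hne
    obtain ⟨t, ht⟩ := ψ_ne (sub_ne_zero.2 hne)
    apply ht
    have h1 := DFunLike.congr_fun h (t • S)
    rw [hΦapp, hΦapp, l.map_smul, l'.map_smul, smul_eq_mul, smul_eq_mul] at h1
    rw [sub_mul, sub_eq_add_neg, AddChar.map_add_eq_mul, mul_comm (l S), h1, mul_comm t, ← AddChar.map_add_eq_mul,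
      add_neg_cancel, AddChar.map_zero_eq_one]
  haveI : Fintype (Sym F n) := Fintype.ofFinite _
  haveI : Finite (Sym F n →ₗ[F] F) := Finite.of_injective _ DFunLike.coe_injective
  haveI : Fintype (Sym F n →ₗ[F] F) := Fintype.ofFinite _
  have hΦsurj : Function.Surjective Φ := by
    refine ((Fintype.bijective_iff_injective_and_card Φ).2 ⟨hΦinj, ?_⟩).2
    rw [AddChar.card_eq, Module.card_eq_pow_finrank (K := F) (V := Sym F n →ₗ[F] F),
      Module.card_eq_pow_finrank (K := F) (V := Sym F n), Subspace.dual_finrank_eq]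
  let P' : (Sym F n →ₗ[F] F) → Module.End ℂ (Fin k → ℂ) := fun l =>
    (Fintype.card (Sym F n) : ℂ)⁻¹ • ∑ S : Sym F n, Φ l (-S) • ρ (sieg S)
  have heig : ∀ l T, ρ (sieg T) * P' l = Φ l T • P' l := by
    intro l T
    simp only [P', mul_smul_comm, Finset.mul_sum, Finset.smul_sum, smul_smul]
    refine Fintype.sum_equiv (Equiv.addLeft T) _ _ fun S => ?_
    show _ = _ • ρ (sieg (T + S))
    rw [← map_mul, ← sieg_add]
    congr 1
    rw [Equiv.coe_addLeft, neg_add, AddChar.map_add_eq_mul]
    have : Φ l T * Φ l (-T) = 1 := by rw [← AddChar.map_add_eq_mul, add_neg_cancel, AddChar.map_zero_eq_one]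
    linear_combination (-((Fintype.card (Sym F n) : ℂ)⁻¹ * Φ l (-S))) * this
  have hne : ∃ l, l ≠ 0 ∧ P' l ≠ 0 := by
    by_contra hcon
    push Not at hcon
    have hsum : ∑ l, P' l = 1 := by
      simp only [P', ← Finset.smul_sum]
      rw [Finset.sum_comm]
      simp only [← Finset.sum_smul]
      rw [Finset.sum_eq_single (0 : Sym F n) (fun S _ hS => ?_) (by simp)]
      · rw [sieg_zero, map_one, neg_zero, smul_smul]
        simp only [AddChar.map_zero_eq_one, Finset.sum_const, Finset.card_univ, nsmul_eq_mul, mul_one]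
        rw [Module.card_eq_pow_finrank (K := F) (V := Sym F n →ₗ[F] F),
          Module.card_eq_pow_finrank (K := F) (V := Sym F n), Subspace.dual_finrank_eq,
          inv_mul_cancel₀ (Nat.cast_ne_zero.2 (pow_ne_zero _ Fintype.card_ne_zero)), one_smul]
      · rw [show ∑ l, Φ l (-S) = 0 from ?_, zero_smul]
        rw [Fintype.sum_bijective Φ ⟨hΦinj, hΦsurj⟩ (fun l => Φ l (-S)) (fun χ => χ (-S)) (fun _ => rfl)]
        exact AddChar.sum_apply_eq_zero_iff_ne_zero.2 (neg_ne_zero.2 hS)
    apply hS1
    rw [Finset.sum_eq_single (0 : Sym F n →ₗ[F] F) (fun l _ hl => hcon l hl) (by simp)] at hsum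
    have := heig 0 S1
    rw [hsum, mul_one, hΦapp, LinearMap.zero_apply, AddChar.map_zero_eq_one, one_smul] at this
    exact this
  obtain ⟨lam, hlam0, hPlam⟩ := hne
  let O : Finset (Sym F n →ₗ[F] F) := Finset.univ.filter fun l => ∃ g : GL (Fin n) F, l = lam.comp (cg g)
  have horb := orbit_large h2 (by omega) lam hlam0 O fun g => Finset.mem_filter.2 ⟨Finset.mem_univ _, g, rfl⟩
  have hOP : ∀ l ∈ O, P' l ≠ 0 := by
    intro l hl hz
    obtain ⟨-, g, rfl⟩ := Finset.mem_filter.1 hl
    apply hPlam
    have hc : ρ (levi g) * P' (lam.comp (cg g)) = P' lam * ρ (levi g) := by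
      simp only [P', mul_smul_comm, smul_mul_assoc, Finset.mul_sum, Finset.sum_mul]
      congr 1
      refine Fintype.sum_bijective (cg g) ?_ _ _ fun S => ?_
      · refine Finite.injective_iff_bijective.1 fun S T h => Subtype.ext ?_
        have h' : g.1 * S.1 * g.1ᵀ = g.1 * T.1 * g.1ᵀ := congrArg Subtype.val h
        have hu : IsUnit g.1ᵀ := (Matrix.isUnit_transpose (A := g.1)).2 g.isUnit
        exact g.isUnit.mul_left_cancel (hu.mul_right_cancel h')
      · rw [← map_mul, levi_sieg, map_mul, hΦapp, hΦapp, LinearMap.comp_apply, (cg g).map_neg]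
    rw [hz, mul_zero] at hc
    calc P' lam = P' lam * (ρ (levi g) * ρ (levi g)⁻¹) := by rw [← map_mul, mul_inv_cancel, map_one, mul_one]
      _ = 0 := by rw [← mul_assoc, ← hc, zero_mul]
  have hex : ∀ l : O, ∃ w, P' l.1 w ≠ 0 := fun l => by
    by_contra hcon
    push Not at hcon
    exact hOP _ l.2 (LinearMap.ext hcon)
  choose w hw using hex
  have hproj : ∀ (l l' : Sym F n →ₗ[F] F) (x : Fin k → ℂ), P' l (P' l' x) = if l = l' then P' l' x else 0 := by
    intro l l' x
    have he : ∀ S, ρ (sieg S) (P' l' x) = Φ l' S • P' l' x := fun S => LinearMap.congr_fun (heig l' S) x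
    generalize hy : P' l' x = y at he ⊢
    simp only [P', LinearMap.smul_apply, LinearMap.sum_apply, he, smul_smul, ← Finset.sum_smul]
    split_ifs with h
    · subst h
      simp only [← AddChar.map_add_eq_mul, neg_add_cancel, AddChar.map_zero_eq_one, Finset.sum_const,
        Finset.card_univ, nsmul_eq_mul, mul_one]
      rw [inv_mul_cancel₀ (Nat.cast_ne_zero.2 Fintype.card_ne_zero), one_smul]
    · have hz : ∑ S : Sym F n, Φ l (-S) * Φ l' S = 0 := by
        simp only [hΦapp, ← AddChar.map_add_eq_mul]
        have hne0 : Φ (l' - l) ≠ 1 := fun hh => h (by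
          have h0 : Φ (l' - l) = Φ 0 := hh.trans (DFunLike.ext _ _ fun S => by simp [hΦapp])
          exact (sub_eq_zero.1 (hΦinj h0)).symm)
        rw [← AddChar.sum_eq_zero_of_ne_one hne0]
        refine Finset.sum_congr rfl fun S _ => ?_
        rw [hΦapp, map_neg, LinearMap.sub_apply]
        congr 1
        ring
      rw [hz]; simp
  have hli : LinearIndependent ℂ fun l : O => P' l.1 (w l) := by
    rw [Fintype.linearIndependent_iff]
    intro c hc l
    have := congrArg (P' l.1) hc
    simp only [map_sum, map_smul, map_zero, hproj] at this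
    rw [Finset.sum_eq_single l (fun l' _ hl' => by rw [if_neg fun h => hl' (Subtype.ext h).symm, smul_zero])
      (by simp), if_pos rfl] at this
    exact (smul_eq_zero.1 this).resolve_right (hw l)
  have hle := hli.fintype_card_le_finrank
  rw [Fintype.card_coe, Module.finrank_fintype_fun_eq_card, Fintype.card_fin] at hle
  omega

end CfsgLib.SympWeil
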